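import Groth.Agent.Vanish.K913.Neg
import Groth.Agent.LogNCD.K913.TermIso
import Groth.Agent.Surf.K455.RelDim
import Groth.Agent.S0458

/-!
# Vanishing theorems for log de Rham complexes on projective manifolds
-/

set_option autoImplicit false

universe u w

open CategoryTheory CategoryTheory.Limits AlgebraicGeometry Opposite TopologicalSpace
open Groth.Agent.Sga67.Sec Groth.Agent.Sga67.LocBasis

namespace K913.VFinal

open K913.CxLoc K913.CxStr K913.ChartAcyc K913.Qis K913.Main K913.Pos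

section dim

variable (k : Type u) [Field k] (X : Scheme.{u}) [X.Over (Spec (CommRingCat.of k))]
  [IsProper (X ↘ Spec (CommRingCat.of k))] [Smooth (X ↘ Spec (CommRingCat.of k))] [IrreducibleSpace X]
  (n : ℕ) (hn : topologicalKrullDim X = n)

include hn

include k in
theorem relDim : SmoothOfRelativeDimension n (X ↘ Spec (CommRingCat.of k)) := by
  have h1 : IsLocallyNoetherian X := LocallyOfFiniteType.isLocallyNoetherian (X ↘ Spec (CommRingCat.of k))
  have h2 : CompactSpace X := QuasiCompact.compactSpace_of_compactSpace (X ↘ Spec (CommRingCat.of k))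
  have h3 : IsNoetherian X := {}
  refine K455.RelDim.smoothOfRelativeDimension k (X ↘ Spec (CommRingCat.of k)) n fun Z hZ => ?_
  rw [irreducibleComponents_eq_singleton] at hZ
  obtain rfl := Set.mem_singleton_iff.1 hZ
  rw [← hn]
  exact IsHomeomorph.topologicalKrullDim_eq _ (Homeomorph.Set.univ X).isHomeomorph

omit [Smooth (X ↘ Spec (CommRingCat.of k))] [IrreducibleSpace X] in
include k in
theorem hdim (G : X.Modules) (q : ℕ) (hq : n < q) : Subsingleton (Coh.HH X G q) := by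
  have h1 : IsLocallyNoetherian X := LocallyOfFiniteType.isLocallyNoetherian (X ↘ Spec (CommRingCat.of k))
  have h2 : CompactSpace X := QuasiCompact.compactSpace_of_compactSpace (X ↘ Spec (CommRingCat.of k))
  have h3 : IsNoetherian X := {}
  have h4 : NoetherianSpace X.toTopCat := inferInstanceAs (NoetherianSpace X)
  exact Groth.Agent.S0458.result (X := X.toTopCat) n hn.le (Coh.toAb G) q hq

end dim

section deg

variable {X S : Scheme.{u}} {f : X ⟶ S} {L : X.Modules} {δ : OmegaSh.Der f L} {E : X.Modules}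
  {nabla : Coh.toAb E ⟶ Coh.toAb (CohB1.tensorMod E L)} (K : ConnSh.Cx δ E nabla)

/-- `E_1`-degeneration and the vanishing of the hypercohomology give the vanishing of `H^b(E ⊗ Ω^a)`. -/
theorem subsingleton_of_hdR [HasDerivedCategory.{w} (Sheaf (Opens.grothendieckTopology X) AddCommGrpCat.{u})]
    (hE1 : E1Deg.HyperDegenerates K.KZ (⊤ : X.Opens)) (hE : FlatMod.IsFinLocFree E) (hL : FlatMod.IsFinLocFree L)
    (a : ℕ) (La : X.Modules) (hLa : ExtPow.IsExtPow a L La) (b : ℕ)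
    (h : Subsingleton (ConnSh.HdR K ((a : ℤ) + b))) : Subsingleton (Coh.HH X (CohB1.tensorMod E La) b) := by
  obtain ⟨e⟩ := K913.TermIso.nonempty_termIso K (Groth.Agent.PerfA.QCohEpi.isQCoh_of_isFinLocFree hE)
    (Groth.Agent.PerfA.QCohEpi.isQCoh_of_isFinLocFree (isFinLocFree_of_isExtPow hL hLa)) hLa
  have h1 := K913.E1Sheaf.subsingleton_H (U := (⊤ : X.Opens)) isTerminalTop hE1 a b h
  exact (K913.E1Sheaf.bijective_Hmap_iso
    (K.iso a ≪≫ (SheafOfModules.toSheaf X.ringCatSheaf).mapIso e.symm) b).2.subsingleton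

end deg

section main

variable (k : Type u) [Field k]
    (X : Scheme.{u}) [X.Over (Spec (CommRingCat.of k))] [IsProper (X ↘ Spec (CommRingCat.of k))]
    [Smooth (X ↘ Spec (CommRingCat.of k))] [IrreducibleSpace X] (n : ℕ) (hn : topologicalKrullDim X = n)
    {Ω' : X.Modules} (d : OmegaSh.Der (X ↘ Spec (CommRingCat.of k)) Ω') (hd : OmegaSh.IsUniversal d)
    {r : ℕ} (D : Fin r → X.IdealSheafData) (hD : LogNCD.IsNCD D (X ↘ Spec (CommRingCat.of k))) (Λ : LogNCD.LogMod d D)
    (E : X.Modules) (hE : FlatMod.IsFinLocFree E)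
    (nabla : Coh.toAb E ⟶ Coh.toAb (CohB1.tensorMod E Λ.L)) (hc : ConnSh.IsConn (LogNCD.der Λ) E nabla)
    (K : ConnSh.Cx (LogNCD.der Λ) E nabla)
    [HasDerivedCategory.{w} (Sheaf (Opens.grothendieckTopology X) AddCommGrpCat.{u})]
    (ρ : ∀ j : Fin r, E ⟶ CohB1.tensorMod E (ClSub.quotMod (D j))) (hρ : ∀ j, LogNCD.IsResidue Λ E nabla j (ρ j))
    (R : ∀ j : Fin r, CohB1.tensorMod E (ClSub.quotMod (D j)) ⟶ CohB1.tensorMod E (ClSub.quotMod (D j)))
    (hR : ∀ j, (SecTwist.unitorR E).inv ≫ KoszTw.tensorMap (𝟙 E) (ClSub.toSubscheme (D j)) ≫ R j = ρ j)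

include hn hd hD hE hc hρ hR

theorem hdR_of_star (c : ℕ) (β : Fin r → ℕ) (hcd : CdLe D β c)
    (hstar : ∀ j : Fin r, β j ≠ 0 → ∀ (m : ℕ), 1 ≤ m → IsIso (R j - m • 𝟙 (CohB1.tensorMod E (ClSub.quotMod (D j)))))
    (l : ℤ) (hl : (n : ℤ) + c < l) : Subsingleton (ConnSh.HdR K l) := by
  have := relDim k X n hn
  refine hdR_pos (K913.HasCharts.hasCharts hd hD Λ) hE hc K
    (Groth.Agent.PerfA.QCohEpi.isQCoh_of_isFinLocFree (K913.HasCharts.isFinLocFree hd hD Λ))
    (K922.Univ.affUniv hd) n (hdim k X n hn) hcd (fun j m hj hm => ?_) l hl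
  refine ⟨ρ j, R j, hρ j, hR j, ?_⟩
  have h1 := hstar j hj m hm
  rwa [sub_eq_add_neg, ← natCast_zsmul, ← neg_smul] at h1

theorem hdR_of_bang (c : ℕ) (β : Fin r → ℕ) (hcd : CdLe D β c)
    (hbang : ∀ j : Fin r, β j ≠ 0 → ∀ (m : ℕ), IsIso (R j + m • 𝟙 (CohB1.tensorMod E (ClSub.quotMod (D j)))))
    (l : ℤ) (hl : l + c < (n : ℤ)) : Subsingleton (ConnSh.HdR K l) := by
  have := relDim k X n hn
  refine K913.Neg.hdR_neg k n (K913.HasCharts.hasCharts hd hD Λ) hE hc K
    (Groth.Agent.PerfA.QCohEpi.isQCoh_of_isFinLocFree (K913.HasCharts.isFinLocFree hd hD Λ))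
    hcd (fun j m hj => ?_) l hl
  refine ⟨ρ j, R j, hρ j, hR j, ?_⟩
  have h1 := hbang j hj m
  rwa [← natCast_zsmul] at h1

end main

end K913.VFinal
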