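import Groth.Agent.Vanish.K913.Pos
import Groth.Agent.LogNCD.K913.TermIso

/-!
# Injectivity of `H^b(E ⊗ ω(D)) → H^b(E(D') ⊗ ω(D))`
-/

set_option autoImplicit false

universe u w

open CategoryTheory CategoryTheory.Limits AlgebraicGeometry Opposite TopologicalSpace
open Groth.Agent.Sga67.Sec Groth.Agent.Sga67.LocBasis

namespace K913.Inj

open K913.Contr K913.LogDG K913.CxLoc K913.CxStr K913.TermLoc K913.TauAff K913.Chart K913.ChartAcyc
  K922.DSec K922.Quot K922.Tens K913.Qis K913.Main K913.Factor K913.NegTwist K913.TwistM K913.Rank K913.Pos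
open Groth.Agent.Ega2

section tens

variable {X : Scheme.{u}} (F L : X.Modules) (I : X.IdealSheafData)

/-- `(F ⊗ I) ⊗ L ≅ (F ⊗ L) ⊗ I` -/
noncomputable def bIso (F L I : X.Modules) :
    CohB1.tensorMod (CohB1.tensorMod F I) L ≅ CohB1.tensorMod (CohB1.tensorMod F L) I :=
  Tens.assoc F I L ≪≫ Tens.mapTIso (Iso.refl F) (Tens.swap I L) ≪≫ (Tens.assoc F L I).symm

theorem bIso_tmul (F L I : X.Modules) (U : X.Opens) (m : Γ(F, U)) (i : Γ(I, U)) (l : Γ(L, U)) :
    (bIso F L I).hom.app U (Tens.tmul (Tens.tmul m i) l) = Tens.tmul (Tens.tmul m l) i := by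
  have h1 : (Tens.assoc F I L).hom.app U (Tens.tmul (Tens.tmul m i) l) = Tens.tmul m (Tens.tmul i l) :=
    Tens.assocHom_tmul m i l
  have h2 : (Tens.mapTIso (Iso.refl F) (Tens.swap I L)).hom.app U (Tens.tmul m (Tens.tmul i l)) =
      Tens.tmul m (Tens.tmul l i) := by
    refine (Tens.mapT_tmul (𝟙 F) (Tens.swapHom I L) m (Tens.tmul i l)).trans ?_
    rw [Tens.swapHom_tmul]
    rfl
  have h3 : (Tens.assoc F L I).symm.hom.app U (Tens.tmul m (Tens.tmul l i)) = Tens.tmul (Tens.tmul m l) i :=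
    Tens.assocInv_tmul m l i
  change (Tens.assoc F L I).symm.hom.app U ((Tens.mapTIso (Iso.refl F) (Tens.swap I L)).hom.app U
    ((Tens.assoc F I L).hom.app U (Tens.tmul (Tens.tmul m i) l))) = _
  rw [h1, h2, h3]

theorem bIso_inclTwist : (bIso F L (ClSub.idealMod I)).hom ≫ LogNCD.inclTwist (CohB1.tensorMod F L) I =
    KoszTw.tensorMap (LogNCD.inclTwist F I) (𝟙 L) := by
  refine Tens.hom_ext₃ _ _ fun U m i l => ?_
  have h1 : ((bIso F L (ClSub.idealMod I)).hom ≫ LogNCD.inclTwist (CohB1.tensorMod F L) I).app U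
      (Tens.tmul (Tens.tmul m i) l) = OmegaSh.idealSect I U i • Tens.tmul m l := by
    refine (congrArg ((LogNCD.inclTwist (CohB1.tensorMod F L) I).app U)
      (bIso_tmul F L (ClSub.idealMod I) U m i l)).trans ?_
    exact inclTwist_tmul (CohB1.tensorMod F L) I U (Tens.tmul m l) i
  have h2 : (KoszTw.tensorMap (LogNCD.inclTwist F I) (𝟙 L)).app U (Tens.tmul (Tens.tmul m i) l) =
      OmegaSh.idealSect I U i • Tens.tmul m l := by
    have h4 := tensorMap_tau (LogNCD.inclTwist F I) (𝟙 L) U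
      ((Tens.tmul m i : Sec (CohB1.tensorMod F (ClSub.idealMod I)) U) ⊗ₜ[Γ(X, U)] (l : Sec L U))
    rw [TensorProduct.map_tmul] at h4
    refine Eq.trans h4 ?_
    have h3 : appS (LogNCD.inclTwist F I) U (Tens.tmul m i) = OmegaSh.idealSect I U i • m :=
      inclTwist_tmul F I U m i
    rw [h3]
    exact (congrArg (tau F L U) (TensorProduct.smul_tmul' (OmegaSh.idealSect I U i) (m : Sec F U)
      (l : Sec L U))).symm.trans (map_smul (tau F L U) _ _)
  rw [h1, h2]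

/-- `(N ⊗ I) ⊗ M ≅ N` if `M ⊗ I ≅ O`. -/
noncomputable def cIso {M I : X.Modules} (ε : CohB1.tensorMod M I ≅ Coh.structureModule X) (N : X.Modules) :
    CohB1.tensorMod (CohB1.tensorMod N I) M ≅ N :=
  Tens.assoc N I M ≪≫ Tens.mapTIso (Iso.refl N) (Tens.swap I M ≪≫ ε) ≪≫ Tens.runit N

end tens

section main

variable {X S : Scheme.{u}} {f : X ⟶ S} {Ω' : X.Modules} {d : OmegaSh.Der f Ω'} {r : ℕ}
  {D : Fin r → X.IdealSheafData} {Λ : LogNCD.LogMod d D} (hch : HasCharts Λ)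
  {F : X.Modules} (hF : FlatMod.IsFinLocFree F) (μ : Fin r → ℕ)
  {nabla : Coh.toAb (CohB1.tensorMod F (ClSub.idealMod (∏ j, D j ^ μ j))) ⟶
    Coh.toAb (CohB1.tensorMod (CohB1.tensorMod F (ClSub.idealMod (∏ j, D j ^ μ j))) Λ.L)}
  (hc : ConnSh.IsConn (LogNCD.der Λ) (CohB1.tensorMod F (ClSub.idealMod (∏ j, D j ^ μ j))) nabla)
  (K : ConnSh.Cx (LogNCD.der Λ) (CohB1.tensorMod F (ClSub.idealMod (∏ j, D j ^ μ j))) nabla)

include hch hF hc in
theorem injective_main (hL : FlatMod.IsFinLocFree Λ.L) (hd : K922.Coord.AffUniv d) (n : ℕ)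
    [SmoothOfRelativeDimension n f]
    [HasDerivedCategory.{w} (Sheaf (Opens.grothendieckTopology X) AddCommGrpCat.{u})]
    (hE1 : E1Deg.HyperDegenerates K.KZ (⊤ : X.Opens))
    (hres : ∀ (j : Fin r) (m : ℕ), 1 ≤ m → m ≤ μ j →
      ResIso Λ (CohB1.tensorMod F (ClSub.idealMod (∏ j, D j ^ μ j))) nabla j (-(m : ℤ)))
    (Ln : X.Modules) (hLn : ExtPow.IsExtPow n Λ.L Ln) (b : ℕ) :
    Function.Injective (Sheaf.H.map ((SheafOfModules.toSheaf X.ringCatSheaf).map
      (KoszTw.tensorMap (LogNCD.inclTwist F (∏ j, D j ^ μ j)) (𝟙 Ln))) b) := by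
  have hE : FlatMod.IsFinLocFree (CohB1.tensorMod F (ClSub.idealMod (∏ j, D j ^ μ j))) :=
    isFinLocFree_twist hF (isEff hch μ)
  have hQ := Groth.Agent.PerfA.QCohEpi.isQCoh_of_isFinLocFree hL
  obtain ⟨M, hM, ⟨e⟩⟩ := Groth.Agent.Grpsch.PicGrp.exists_inverse
    (Groth.Agent.Dix.IdealModCartier.isInvertible_idealMod (isEff hch μ))
  have ε : CohB1.tensorMod M (ClSub.idealMod (∏ j, D j ^ μ j)) ≅ Coh.structureModule X :=
    Tens.swap _ _ ≪≫ e
  obtain ⟨P, φ, eP, hφ, hφ'⟩ := exists_posCxM hch hE hc K hQ μ _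
    (ideal_prod_pow (D := D) μ) (isFinLocFree_of_isInvertible hM) ε (fun j c hc => by
      have h3 := hres j (μ j - c) (by omega) (by omega)
      have h4 : (-((μ j - c : ℕ) : ℤ)) = (c : ℤ) - (μ j : ℕ) := by
        rw [Nat.cast_sub hc.le]
        ring
      rw [h4] at h3
      exact h3)
  have h1 := K913.E1Sheaf.injective_H (U := (⊤ : X.Opens)) isTerminalTop φ n
    (fun m hm => isZero_X hch hE K hd n m hm)
    (fun m hm => by
      have h6 := isZero_X hch hE K hd n m hm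
      exact ((SheafOfModules.toSheaf X.ringCatSheaf).map_isZero
        (isZero_tensor (isZero_of_toAb (h6.of_iso (K.iso m).symm)) M)).of_iso (eP m)) hE1 b
  have h2 : Function.Injective (Sheaf.H.map ((SheafOfModules.toSheaf X.ringCatSheaf).map
      (kM ε (K.term n))) b) :=
    K913.E1Sheaf.injective_Hmap_of_iso (K.iso n) (eP n) (hφ' n) b h1
  obtain ⟨eT⟩ := K913.TermIso.nonempty_termIso K (Groth.Agent.PerfA.QCohEpi.isQCoh_of_isFinLocFree hE)
    (Groth.Agent.PerfA.QCohEpi.isQCoh_of_isFinLocFree (isFinLocFree_of_isExtPow hL hLn)) hLn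
  -- `term n ≅ (F ⊗ Ln) ⊗ I`
  let N := CohB1.tensorMod F Ln
  let I := ClSub.idealMod (∏ j, D j ^ μ j)
  let c1 : K.term n ≅ CohB1.tensorMod N I := eT.symm ≪≫ bIso F Ln I
  let a : CohB1.tensorMod (K.term n) M ≅ N := Tens.mapTIso c1 (Iso.refl M) ≪≫ cIso ε N
  let c2 : K.term n ≅ CohB1.tensorMod N I := eM ε (K.term n) ≪≫ Tens.mapTIso a (Iso.refl I)
  have h3 : kM ε (K.term n) = c2.hom ≫ LogNCD.inclTwist N (∏ j, D j ^ μ j) ≫ a.inv := by
    have h4 := inclTwist_nat a.hom (∏ j, D j ^ μ j)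
    have h5 : c2.hom = (eM ε (K.term n)).hom ≫ Tens.mapT a.hom (𝟙 I) := rfl
    rw [h5, Category.assoc, reassoc_of% h4, kM, a.hom_inv_id, Category.comp_id]
  have h4 : Function.Injective (Sheaf.H.map ((SheafOfModules.toSheaf X.ringCatSheaf).map
      (LogNCD.inclTwist N (∏ j, D j ^ μ j))) b) := by
    refine K913.E1Sheaf.injective_Hmap_of_iso ((SheafOfModules.toSheaf X.ringCatSheaf).mapIso c2)
      ((SheafOfModules.toSheaf X.ringCatSheaf).mapIso a) ?_ b h2
    rw [h3]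
    refine ((SheafOfModules.toSheaf X.ringCatSheaf).map_comp _ _).trans ?_
    exact congrArg ((SheafOfModules.toSheaf X.ringCatSheaf).map c2.hom ≫ ·)
      ((SheafOfModules.toSheaf X.ringCatSheaf).map_comp _ _)
  refine K913.E1Sheaf.injective_Hmap_of_iso (f := (SheafOfModules.toSheaf X.ringCatSheaf).map
    (LogNCD.inclTwist N (∏ j, D j ^ μ j)))
    ((SheafOfModules.toSheaf X.ringCatSheaf).mapIso (bIso F Ln I).symm)
    (Iso.refl _) ?_ b h4
  rw [← bIso_inclTwist]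
  change _ = (SheafOfModules.toSheaf X.ringCatSheaf).map (bIso F Ln I).inv ≫
    (SheafOfModules.toSheaf X.ringCatSheaf).map ((bIso F Ln I).hom ≫ LogNCD.inclTwist N _) ≫ 𝟙 _
  rw [Category.comp_id]
  refine Eq.trans ?_ ((SheafOfModules.toSheaf X.ringCatSheaf).map_comp _ _)
  exact congrArg (SheafOfModules.toSheaf X.ringCatSheaf).map
    ((bIso F Ln I).inv_hom_id_assoc (LogNCD.inclTwist N (∏ j, D j ^ μ j))).symm

end main

end K913.Inj
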