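import Groth.Agent.Dcoh.MonClosed
import Groth.Agent.S9524

/-!
# The sheaf Hom out of the tensor product with an invertible module
-/

set_option autoImplicit false
universe u v

open CategoryTheory CategoryTheory.Limits AlgebraicGeometry Opposite MonoidalCategory

namespace K913.DualTens

section gen

variable {C : Type u} [Category.{v} C] [MonoidalCategory C] [BraidedCategory C]

/-- Tensoring with `M` is quasi-inverse to tensoring with `I` if `M ⊗ I ≅ 𝟙`. -/
noncomputable def equivOf {M I : C} (e : M ⊗ I ≅ 𝟙_ C) : C ≌ C :=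
  CategoryTheory.Equivalence.mk (tensorLeft I) (tensorLeft M)
    ((leftUnitorNatIso C).symm ≪≫ (tensoringLeft C).mapIso e.symm ≪≫ tensorLeftTensor M I)
    ((tensorLeftTensor I M).symm ≪≫ (tensoringLeft C).mapIso (β_ I M ≪≫ e) ≪≫ leftUnitorNatIso C)

/-- The right adjoint of tensoring with `T ⊗ I`. -/
noncomputable def adjTensor {M I T : C} (e : M ⊗ I ≅ 𝟙_ C) {R : C ⥤ C} (adj : tensorLeft T ⊣ R) :
    tensorLeft (T ⊗ I) ⊣ R ⋙ tensorLeft M :=
  ((equivOf e).toAdjunction.comp adj).ofNatIsoLeft (tensorLeftTensor T I).symm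

end gen

open scoped Groth.Agent.Dcoh.MonCat

variable {X : Scheme.{u}}

/-- `Hom(T ⊗ I, N) ≅ Hom(T, N) ⊗ M` for an inverse `M` of `I`. -/
theorem nonempty_sheafHom_tensor {M I : X.Modules} (e : CohB1.tensorMod M I ≅ Coh.structureModule X)
    (T N : X.Modules) [DCoh.HasSheafHom T] [DCoh.HasSheafHom (CohB1.tensorMod T I)] :
    Nonempty ((DCoh.sheafHom (CohB1.tensorMod T I)).obj N ≅ CohB1.tensorMod ((DCoh.sheafHom T).obj N) M) := by
  let adj0 : tensorLeft T ⊣ DCoh.sheafHom T := DCoh.sheafHomAdj T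
  let adj1 : tensorLeft (T ⊗ I) ⊣ DCoh.sheafHom (CohB1.tensorMod T I) := DCoh.sheafHomAdj (CohB1.tensorMod T I)
  exact ⟨(adj1.rightAdjointUniq (adjTensor (C := X.Modules) e adj0)).app N ≪≫ β_ M _⟩

end K913.DualTens
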