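import Groth.Agent.Vanish.K913.Pos
import Groth.Agent.Vanish.K913.DualTens
import Groth.Agent.Surf.K461.SerreLF
import Groth.Agent.AbSch.K450.OmegaFLF
import Groth.Agent.Dual.H366.ExtQCoh

/-!
# Vanishing of the hypercohomology of the log de Rham complex: negative twists
-/

set_option autoImplicit false

universe u w

open CategoryTheory CategoryTheory.Limits AlgebraicGeometry Opposite TopologicalSpace
open Groth.Agent.Sga67.Sec Groth.Agent.Sga67.LocBasis

namespace K913.Neg

open K913.Contr K913.LogDG K913.CxLoc K913.CxStr K913.TermLoc K913.TauAff K913.Chart K913.ChartAcyc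
  K922.DSec K922.Quot K922.Tens K913.Qis K913.Main K913.Factor K913.NegTwist K913.TwistM K913.Rank K913.Pos
open Groth.Agent.Ega2

theorem subsingleton_of_dual (k : Type*) [Field k] (V : Type*) [AddCommGroup V] [Module k V]
    [Subsingleton (Module.Dual k V)] : Subsingleton V := by
  refine subsingleton_of_forall_eq 0 fun v => ?_
  rw [← Module.forall_dual_apply_eq_zero_iff k v]
  intro φ
  rw [Subsingleton.elim φ 0]
  rfl

variable (k : Type u) [Field k] {X : Scheme.{u}} [X.Over (Spec (CommRingCat.of k))]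
  [IsProper (X ↘ Spec (CommRingCat.of k))] (n : ℕ) [SmoothOfRelativeDimension n (X ↘ Spec (CommRingCat.of k))]

include k in
/-- Serre duality for the twist by an invertible module: the vanishing of `H^q(T ⊗ I)`. -/
theorem subsingleton_HH_twist {W : X.Modules}
    (hW : ExtPow.IsExtPow n (Omega.sheaf (X ↘ Spec (CommRingCat.of k))) W) {T I M : X.Modules}
    (hT : FlatMod.IsFinLocFree T) (hI : FlatMod.IsFinLocFree I)
    (ε : CohB1.tensorMod M I ≅ Coh.structureModule X) [DCoh.HasSheafHom T]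
    [DCoh.HasSheafHom (CohB1.tensorMod T I)]
    (q q' : ℕ) (hq : q' + q = n) (h : Subsingleton (Coh.HH X (CohB1.tensorMod ((DCoh.sheafHom T).obj W) M) q')) :
    Subsingleton (Coh.HH X (CohB1.tensorMod T I) q) := by
  obtain ⟨e⟩ := K461.SerreLF.nonempty_dual_equiv k n hW
    (Groth.Agent.Sga67.LocBasis.isFinLocFree_tensorMod hT hI) q' q hq
  obtain ⟨e'⟩ := K913.DualTens.nonempty_sheafHom_tensor ε T W
  have h1 : Subsingleton (Coh.HH X ((DCoh.sheafHom (CohB1.tensorMod T I)).obj W) q') :=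
    (K913.E1Sheaf.bijective_Hmap_iso ((SheafOfModules.toSheaf X.ringCatSheaf).mapIso e'.symm) q').2.subsingleton
  have h2 : Subsingleton (Module.Dual k (Coh.HH X (CohB1.tensorMod T I) q)) := e.toEquiv.subsingleton
  exact subsingleton_of_dual k _

variable {Ω' : X.Modules} {d : OmegaSh.Der (X ↘ Spec (CommRingCat.of k)) Ω'} {r : ℕ}
  {D : Fin r → X.IdealSheafData} {Λ : LogNCD.LogMod d D} (hch : HasCharts Λ)
  {E : X.Modules} (hE : FlatMod.IsFinLocFree E)
  {nabla : Coh.toAb E ⟶ Coh.toAb (CohB1.tensorMod E Λ.L)} (hc : ConnSh.IsConn (LogNCD.der Λ) E nabla)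
  (K : ConnSh.Cx (LogNCD.der Λ) E nabla)

include hch hE hc in
theorem hdR_neg (hL : Coh.IsQCoh Λ.L)
    [HasDerivedCategory.{w} (Sheaf (Opens.grothendieckTopology X) AddCommGrpCat.{u})]
    {β : Fin r → ℕ} {c : ℕ} (hcd : CdLe D β c)
    (hres : ∀ (j : Fin r) (m : ℕ), β j ≠ 0 → ResIso Λ E nabla j (m : ℤ))
    (l : ℤ) (hl : l + c < (n : ℤ)) : Subsingleton (ConnSh.HdR K l) := by
  have hsm : Smooth (X ↘ Spec (CommRingCat.of k)) := SmoothOfRelativeDimension.smooth n _
  have hN : IsLocallyNoetherian X := LocallyOfFiniteType.isLocallyNoetherian (X ↘ Spec (CommRingCat.of k))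
  have hΩ : FlatMod.IsFinLocFree (Omega.sheaf (X ↘ Spec (CommRingCat.of k))) :=
    K450.OmegaFLF.isFinLocFree_omega _
  obtain ⟨W, hW⟩ := Groth.Agent.Dual.H366.ExtQCoh.exists_isExtPow n
    (Groth.Agent.PerfA.QCohEpi.isQCoh_of_isFinLocFree hΩ)
  have hWf : FlatMod.IsFinLocFree W := Groth.Agent.Sga67.LocBasis.isFinLocFree_of_isExtPow hΩ hW
  have hsh : ∀ T : X.Modules, DCoh.HasSheafHom T := fun T => Groth.Agent.Dcoh.MonClosed.hasSheafHom T
  obtain ⟨ν, hν, h1⟩ := exists_common hcd (fun p => (DCoh.sheafHom (K.term p)).obj W)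
    (fun p => Groth.Agent.S9524.result X _ _
      (Groth.Agent.PerfA.CohSerre.isCoh_of_isFinLocFree (isFinLocFree_term hch hE K p))
      (Groth.Agent.PerfA.CohSerre.isCoh_of_isFinLocFree hWf)) n
  have hinv := Groth.Agent.Dix.IdealModCartier.isInvertible_idealMod (isEff hch fun j => ν * β j)
  obtain ⟨M, hM, ⟨e⟩⟩ := Groth.Agent.Grpsch.PicGrp.exists_inverse hinv
  have ε : CohB1.tensorMod M (ClSub.idealMod (∏ j, D j ^ (ν * β j))) ≅ Coh.structureModule X :=
    Tens.swap _ _ ≪≫ e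
  have h1 := h1 M ⟨ε⟩
  obtain ⟨P, φ, eP, hφ, -⟩ := exists_negCxR hch hE hc K hL (fun j => ν * β j) _
    (ideal_prod_pow (D := D) (fun j => ν * β j)) (fun j c hc => hres j c (by
      rintro h
      simp [h] at hc))
  have hT : IsTerminal (⊤ : X.Opens) := isTerminalTop
  change Subsingleton (E1Deg.HT (CohCx.freeSheaf _ (⊤ : X.Opens)) (K913.E1Sheaf.ext K.K) l)
  rw [← K913.E1Sheaf.subsingleton_HT_iff φ l]
  refine K913.E1Sheaf.subsingleton_HT_ext hT P l fun p q hpq => ?_
  have h5 : Subsingleton (Coh.HH X (CohB1.tensorMod (K.term p) (ClSub.idealMod (∏ j, D j ^ (ν * β j)))) q) :=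
    subsingleton_HH_twist k n hW (isFinLocFree_term hch hE K p) (isFinLocFree_of_isInvertible hinv) ε q (n - q)
      (by omega) (h1 p (n - q) (by omega) (by omega) (by omega))
  exact (K913.E1Sheaf.bijective_Hmap_iso (eP p).symm q).2.subsingleton

end K913.Neg
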