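import Groth.Agent.LogNCD.K913.TwistM
import Groth.Agent.LogNCD.K913.E1Sheaf
import Groth.Agent.LogNCD.K913.Rank
import Groth.Agent.LogNCD.K913.HasCharts
import Groth.Agent.Grpsch.PicGrp
import Groth.Agent.PerfA.CohSerre

/-!
# Vanishing of the hypercohomology of the log de Rham complex: positive twists
-/

set_option autoImplicit false

universe u w

open CategoryTheory CategoryTheory.Limits AlgebraicGeometry Opposite TopologicalSpace
open Groth.Agent.Sga67.Sec Groth.Agent.Sga67.LocBasis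

namespace K913.Pos

open K913.Contr K913.LogDG K913.CxLoc K913.CxStr K913.TermLoc K913.TauAff K913.Chart K913.ChartAcyc
  K922.DSec K922.Quot K922.Tens K913.Qis K913.Main K913.Factor K913.NegTwist K913.TwistM K913.Rank
open Groth.Agent.Ega2

/-- The bound for the coherent cohomological dimension of the complement of `Σ β_j D_j`. -/
def CdLe {X : Scheme.{u}} {r : ℕ} (D : Fin r → X.IdealSheafData) (β : Fin r → ℕ) (c : ℕ) : Prop :=
  ∀ (G : X.Modules), Coh.IsCoh G → ∀ q : ℕ, c < q → ∃ ν₀ : ℕ, 0 < ν₀ ∧ ∀ ν : ℕ, 0 < ν → ν₀ ∣ ν →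
    ∀ M : X.Modules, ClSub.IsInverseOf M (ClSub.idealMod (∏ j, D j ^ (ν * β j))) →
      Subsingleton (Coh.HH X (CohB1.tensorMod G M) q)

/-- A common multiple for finitely many modules and degrees. -/
theorem exists_common {X : Scheme.{u}} {r : ℕ} {D : Fin r → X.IdealSheafData} {β : Fin r → ℕ} {c : ℕ}
    (h : CdLe D β c) (G : ℕ → X.Modules) (hG : ∀ p, Coh.IsCoh (G p)) (n : ℕ) :
    ∃ ν : ℕ, 0 < ν ∧ ∀ M : X.Modules, ClSub.IsInverseOf M (ClSub.idealMod (∏ j, D j ^ (ν * β j))) →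
      ∀ p q : ℕ, p ≤ n → q ≤ n → c < q → Subsingleton (Coh.HH X (CohB1.tensorMod (G p) M) q) := by
  have h1 : ∀ p q : ℕ, ∃ ν₀ : ℕ, 0 < ν₀ ∧ (c < q → ∀ ν : ℕ, 0 < ν → ν₀ ∣ ν →
      ∀ M : X.Modules, ClSub.IsInverseOf M (ClSub.idealMod (∏ j, D j ^ (ν * β j))) →
        Subsingleton (Coh.HH X (CohB1.tensorMod (G p) M) q)) := by
    intro p q
    by_cases hq : c < q
    · obtain ⟨ν₀, h2, h3⟩ := h (G p) (hG p) q hq
      exact ⟨ν₀, h2, fun _ => h3⟩
    · exact ⟨1, one_pos, fun h' => absurd h' hq⟩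
  choose ν₀ h2 h3 using h1
  refine ⟨∏ p ∈ Finset.range (n + 1), ∏ q ∈ Finset.range (n + 1), ν₀ p q,
    Finset.prod_pos fun p _ => Finset.prod_pos fun q _ => h2 p q, fun M hM p q hp hq hc => ?_⟩
  refine h3 p q hc _ (Finset.prod_pos fun p _ => Finset.prod_pos fun q _ => h2 p q) ?_ M hM
  exact (Finset.dvd_prod_of_mem (fun q => ν₀ p q) (Finset.mem_range.2 (Nat.lt_succ_of_le hq))).trans
    (Finset.dvd_prod_of_mem (fun p => ∏ q ∈ Finset.range (n + 1), ν₀ p q)
      (Finset.mem_range.2 (Nat.lt_succ_of_le hp)))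

theorem isZero_of_toAb {X : Scheme.{u}} {M : X.Modules} (h : IsZero (Coh.toAb M)) : IsZero M := by
  rw [IsZero.iff_id_eq_zero] at h ⊢
  apply (SheafOfModules.toSheaf X.ringCatSheaf).map_injective
  refine ((SheafOfModules.toSheaf X.ringCatSheaf).map_id M).trans (Eq.trans h ?_)
  exact (Functor.map_zero (SheafOfModules.toSheaf X.ringCatSheaf) M M).symm

theorem isZero_tensor {X : Scheme.{u}} {M : X.Modules} (h : IsZero M) (N : X.Modules) :
    IsZero (CohB1.tensorMod M N) := by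
  have h1 : 𝟙 (CohB1.tensorMod M N) = 0 := by
    refine Tens.hom_ext _ _ fun U e a => ?_
    have he : e = 0 := by
      have h2 : (𝟙 M : M ⟶ M) = 0 := (IsZero.iff_id_eq_zero M).1 h
      have h3 := congrArg (fun φ : M ⟶ M => φ.app U e) h2
      exact h3
    subst he
    have h4 : (Tens.tmul (0 : Γ(M, U)) a : Γ(CohB1.tensorMod M N, U)) = 0 := Tens.zero_tmul a
    change (𝟙 (CohB1.tensorMod M N) : _ ⟶ _).app U (Tens.tmul (0 : Γ(M, U)) a) =
      (0 : CohB1.tensorMod M N ⟶ CohB1.tensorMod M N).app U (Tens.tmul (0 : Γ(M, U)) a)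
    rw [h4, map_zero, map_zero]
  exact (IsZero.iff_id_eq_zero _).2 h1

theorem subsingleton_H_of_isZero {X : Scheme.{u}} {M : X.Modules} (h : IsZero M) (q : ℕ) :
    Subsingleton (Coh.HH X M q) := by
  have h1 : IsZero (Coh.toAb M) := (SheafOfModules.toSheaf X.ringCatSheaf).map_isZero h
  exact Sheaf.subsingleton_H_of_isZero h1 q

section main

variable {X S : Scheme.{u}} {f : X ⟶ S} {Ω' : X.Modules} {d : OmegaSh.Der f Ω'} {r : ℕ}
  {D : Fin r → X.IdealSheafData} {Λ : LogNCD.LogMod d D} (hch : HasCharts Λ)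
  {E : X.Modules} (hE : FlatMod.IsFinLocFree E)
  {nabla : Coh.toAb E ⟶ Coh.toAb (CohB1.tensorMod E Λ.L)} (hc : ConnSh.IsConn (LogNCD.der Λ) E nabla)
  (K : ConnSh.Cx (LogNCD.der Λ) E nabla)

include hch hE hc in
theorem hdR_pos (hL : Coh.IsQCoh Λ.L) (hd : K922.Coord.AffUniv d) (n : ℕ) [SmoothOfRelativeDimension n f]
    [HasDerivedCategory.{w} (Sheaf (Opens.grothendieckTopology X) AddCommGrpCat.{u})]
    (hdim : ∀ (G : X.Modules) (q : ℕ), n < q → Subsingleton (Coh.HH X G q))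
    {β : Fin r → ℕ} {c : ℕ} (hcd : CdLe D β c)
    (hres : ∀ (j : Fin r) (m : ℕ), β j ≠ 0 → 1 ≤ m → ResIso Λ E nabla j (-(m : ℤ)))
    (l : ℤ) (hl : (n : ℤ) + c < l) : Subsingleton (ConnSh.HdR K l) := by
  obtain ⟨ν, hν, h1⟩ := exists_common hcd K.term
    (fun p => Groth.Agent.PerfA.CohSerre.isCoh_of_isFinLocFree (isFinLocFree_term hch hE K p)) n
  obtain ⟨M, hM, ⟨e⟩⟩ := Groth.Agent.Grpsch.PicGrp.exists_inverse
    (Groth.Agent.Dix.IdealModCartier.isInvertible_idealMod (isEff hch fun j => ν * β j))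
  have ε : CohB1.tensorMod M (ClSub.idealMod (∏ j, D j ^ (ν * β j))) ≅ Coh.structureModule X :=
    Tens.swap _ _ ≪≫ e
  have h1 := h1 M ⟨ε⟩
  obtain ⟨P, φ, eP, hφ, -⟩ := exists_posCxM hch hE hc K hL (fun j => ν * β j) _
    (ideal_prod_pow (D := D) (fun j => ν * β j)) (isFinLocFree_of_isInvertible hM) ε (fun j c hc => by
      have h2 : β j ≠ 0 := by
        rintro h
        simp [h] at hc
      have h3 := hres j (ν * β j - c) h2 (by omega)
      have h4 : (-((ν * β j - c : ℕ) : ℤ)) = (c : ℤ) - (ν * β j : ℕ) := by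
        rw [Nat.cast_sub hc.le]
        ring
      rw [h4] at h3
      exact h3)
  have hT : IsTerminal (⊤ : X.Opens) := isTerminalTop
  change Subsingleton (E1Deg.HT (CohCx.freeSheaf _ (⊤ : X.Opens)) (K913.E1Sheaf.ext K.K) l)
  rw [K913.E1Sheaf.subsingleton_HT_iff φ l]
  refine K913.E1Sheaf.subsingleton_HT_ext hT P l fun p q hpq => ?_
  have h5 : Subsingleton (Coh.HH X (CohB1.tensorMod (K.term p) M) q) := by
    by_cases hp : p ≤ n
    · by_cases hq : q ≤ n
      · exact h1 p q hp hq (by omega)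
      · exact hdim _ q (by omega)
    · have h6 := isZero_X hch hE K hd n p (by omega)
      exact subsingleton_H_of_isZero (isZero_tensor (isZero_of_toAb (h6.of_iso (K.iso p).symm)) M) q
  exact (K913.E1Sheaf.bijective_Hmap_iso (eP p).symm q).2.subsingleton

end main

end K913.Pos
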